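import Mathlib
import Cfsg.Agent.Lib.CosetTable.Check

/-! Generated certificate data for the coset table `ONSimpleMax2`. -/

namespace Cfsg.Agent.Lib.CosetTable.ONSimpleMax2

open Cfsg.Agent.Lib.CosetTable

set_option maxRecDepth 10000

noncomputable def facts : T := .leaf 0x600000400000700000000002700000400002200000400002100000400002300000800002700000800002200000400004200000c00004700000800006700000400006500001000002700000400008700001000006200001000012200002800008700001000014700000c00014500002400006700000c00012700002400014000002800012500002800012300002800012200000c00014100001000012100001000006500000c00008500000c00008000000400004500001800008700000c00008500001400006700000c0000a70000040000a200002000002700000800002500001c0000470000080000e700001400010200001c00010100002000004500002000004000001c00010300001c00002500001c0000200000180000e20000180000650000180000600000140000c30000140000800000100000a500001000006300000800008200000400006200000800002300000400004100000000002600000000000500000000000400000000000300000000000200000000000100000000000000000000000e00000000000d00000000000c00000000000b00000000000a000000000009000000000008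

noncomputable def defs : T := .leaf 0x610000000000810000000000e30000000000c20000000000a3000000000085000000000042000000000022000000000021000000000006000000000000

noncomputable def nodeT : ℕ := 0x0

noncomputable def parT : ℕ := 0x0

noncomputable def perm0 : ℕ := 0x0

noncomputable def eid0 : ℕ := 0x7

noncomputable def perm1 : ℕ := 0x0

noncomputable def eid1 : ℕ := 0x8

noncomputable def perm2 : ℕ := 0x0

noncomputable def eid2 : ℕ := 0x9

noncomputable def perm3 : ℕ := 0x0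

noncomputable def eid3 : ℕ := 0xa

noncomputable def perm4 : ℕ := 0x0

noncomputable def eid4 : ℕ := 0xb

noncomputable def perm5 : ℕ := 0x0

noncomputable def eid5 : ℕ := 0xc

noncomputable def perm6 : ℕ := 0x0

noncomputable def eid6 : ℕ := 0x47

noncomputable def rulesT : RT := .node (.node (.node (.node (.node (.leaf 0 [8] 58 0) (.leaf 7 [] 0 0)) (.node (.leaf 0 [5, 3, 2, 3, 2, 3, 2, 3, 2] 22 1) (.leaf 5 [1, 5, 1] 10 0))) (.node (.node (.leaf 4 [12] 62 0) (.leaf 7 [2, 2] 11 0)) (.node (.leaf 5 [2, 5, 2] 14 0) (.leaf 1 [1] 0 0)))) (.node (.node (.node (.leaf 2 [10] 60 0) (.leaf 7 [5, 5] 20 0)) (.node (.leaf 5 [3, 5, 3] 17 0) (.leaf 7 [2, 6, 2, 1, 6, 2, 3, 2, 3, 1, 3, 2, 3, 6, 2, 1, 6] 56 16))) (.node (.node (.leaf 3 [1, 6, 14, 6] 64 3) (.leaf 2 [1, 2, 1, 2, 1] 7 0)) (.node (.leaf 2 [5, 2, 5] 14 1) (.leaf 6 [6] 0 0))))) (.node (.node (.node (.node (.leaf 1 [9] 59 0) (.leaf 5 [5] 0 0)) (.node (.leaf 0 [3, 0, 3] 3 1) (.leaf 7 [1, 0, 1,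 0, 1, 0] 1 1))) (.node (.node (.leaf 5 [13] 63 0) (.leaf 0 [0] 0 0)) (.node (.leaf 1 [5, 1, 5] 10 1) (.leaf 7 [2, 6, 1, 3, 2, 6, 1, 3, 2, 6, 1, 3, 2, 6, 1, 3, 2, 6, 1, 3] 26 2)))) (.node (.node (.node (.leaf 3 [11] 61 0) (.leaf 2 [2] 0 0)) (.node (.leaf 0 [2, 0, 2] 2 1) (.leaf 3 [3] 0 0))) (.node (.node (.leaf 3 [2, 3, 6, 3, 2, 3, 2, 6, 2] 23 3) (.leaf 3 [1, 3, 1] 8 0)) (.node (.leaf 7 [0, 1, 0, 1, 0, 1] 1 0) (.leaf 7 [] 0 0)))))

noncomputable def relsL : List (List ℕ) := [[0, 0],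
  [0, 1, 0, 1, 0, 1],
  [0, 2, 0, 2],
  [0, 3, 0, 3],
  [0, 4, 0, 4],
  [0, 5, 0, 5],
  [1, 1],
  [1, 2, 1, 2, 1, 2],
  [1, 3, 1, 3],
  [1, 4, 1, 4],
  [1, 5, 1, 5],
  [2, 2],
  [2, 3, 2, 3, 2, 3, 2, 3, 2, 3, 2, 3, 2, 3, 2, 3],
  [2, 4, 2, 4],
  [2, 5, 2, 5],
  [3, 3],
  [3, 4, 3, 4, 3, 4],
  [3, 5, 3, 5],
  [4, 4],
  [4, 5, 4, 5, 4, 5],
  [5, 5],
  [6, 6],
  [0, 5, 3, 2, 3, 2, 3, 2, 3, 2],
  [6, 2, 3, 2, 3, 6, 3, 2, 3, 2],
  [2, 6, 3, 6, 3, 2, 3, 6, 3, 6],
  [3, 6, 2, 6, 2, 3, 2, 6, 2, 6],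
  [1, 3, 2, 6, 1, 3, 2, 6, 1, 3, 2, 6, 1, 3, 2, 6, 1, 3, 2, 6],
  [2, 6, 1, 2, 6, 3, 2, 3, 1, 3, 2, 3, 2, 6, 1, 2, 6],
  [3, 6, 4, 3, 6, 3, 2, 3, 2, 3, 4, 3, 2, 3, 2, 6, 4, 3, 6]]

noncomputable def subsL : List (List ℕ) := [[0],
  [1],
  [2],
  [3],
  [4],
  [5],
  [6, 1, 3, 6]]

noncomputable def cert : Cert where
  k := 7
  rels := relsL
  subs := subsL
  rules := rulesT
  facts := facts
  defs := defs

noncomputable def tab : Table where
  n := 1
  k := 7
  node := nodeT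
  perms := [perm0, perm1, perm2, perm3, perm4, perm5, perm6]
  eids := [eid0, eid1, eid2, eid3, eid4, eid5, eid6]
  par := parT

end Cfsg.Agent.Lib.CosetTable.ONSimpleMax2
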