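import Cfsg.Agent.Lib.CosetTable.Sound
import Cfsg.Agent.Lib.CosetTable.ONSimpleMax2.Data

/-! Generated certificate data for the coset table `ONSimpleMax2`. -/

namespace Cfsg.Agent.Lib.CosetTable.ONSimpleMax2

open Cfsg.Agent.Lib.CosetTable

noncomputable def streams0 : List (ℕ × ℕ) := [(64, 0x7c00002000000200001500007b00000100001200007800005300000200001400005800007700000200001300007500000100001200007300002000000200001600006800007000000200001500005e00006f00000200001500006d00000100001200006a00005700000200001400006300006900000200001300006700000100001200006500005c00005500005b00006500005c00000600001b00005f00006000005f00006000005f00006000005f00006000006300000900000a00005a00005600005d00000300001a00005a00002500005d00000300001900005a00002200001c00002100005d00000500001800000000000000000000000000004c00002600000200001300005000002f00000200001300005000002d00000200001700004200003500000200001300004e00002e00000200001400002700004d00000200001300004b00000100001200004800002100000200001600003f00004700000200001500004400003a00000200001400003400004300000200001300004100000100001200003d00003900001c00003200003d00003900000600001100003b00002300002700000300001000003b00001c00003400000300000f00001f00003400003700000300000c00001f00003200003700000300000b00000000000000002100002e00003100000300000e00002100002c00003100000300000d00000000000000002400002700002b00000300000c00002400002800002b00000300000b00000000000000002200001f00002100002400002200001f00002100002400002700000900000a00000000000000002000001a00001200001400001200001400001b00001e00002300000900000900000000000000000000000000001a00000c00001b00001d00000400000800000000000000000000000000000a000001000007000008000001000006000006000001000005000004000001000004000002000001000003000000000001000002000000000001000000000001000000000001000000000001000000000001000000000001000000000001),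
  (8, 0x8c00001a00000200002000008b00000100001200008500008700001a00001300001500001100001b00008900008500008700001a00001300001500001100001b00008900008500008700001a00001300001400001f00008200007e00000200001500008200001c00000200001e00008200001f00000200001d00001a00001000001200001b00001e00007e00001e00001c00001e00008100001e00008100001a00001100001300001b00007f00001100001c000076000022000002000015)]

theorem run0 : cert.goStreams streams0 0 = true := by decide +kernel

theorem part1 (h : cert.Upto 0) : cert.Upto 72 :=
  (h).step (b := 72) run0 rfl

end Cfsg.Agent.Lib.CosetTable.ONSimpleMax2
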